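import Cfsg.Agent.Lib.helper17.ONM.P3A.Chk0
import Cfsg.Agent.Lib.helper17.ONM.Valid
import Cfsg.Agent.Lib.helper17.ONM.P3A.Pres

/-! the checks of the certificate (generated, helper17) -/

set_option autoImplicit false
set_option maxRecDepth 100000
set_option linter.unusedSimpArgs false
set_option Elab.async false

namespace Cfsg.Agent.Lib.helper17.ONM.P3A

open Cfsg.Agent.Lib.Helper12.TC Cfsg.Agent.Lib.Helper12.TCG 

theorem hdefs_0 : defsPartK F 0 395 = true := by decide +kernel

theorem hdefs : defsK F cD = true :=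
  defsK_of_OK (defsOK_step hdefs_0 rfl
    (defsOK_start F))

/-- the chunks of the certificate -/
def chunks : List (ℕ × List ℕ) :=
  [(395, c0)]

theorem hcover : coverK cD cK chunks = true := by decide +kernel

theorem hchunks : ∀ c ∈ chunks, chunkG cIV F RW cR0 c.2 c.1 = true := by
  unfold chunks
  simp only [List.forall_mem_cons, List.not_mem_nil, false_imp_iff, implies_true, and_true]
  exact chunk0

theorem hrelc : relCheckK RW cR0 cR baseL rotW sw = true := by
  decide +kernel

theorem hletsw : lettersK 12 sw = true := by decide +kernel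

theorem hiv : ivK cIV 12 = true := by decide +kernel

theorem htarget_0 : 1212 < cK ∧ fSrc (F 1212) = 0 ∧ fDst (F 1212) = 0 ∧ fSym (F 1212) = 9 := by decide +kernel

theorem htarget_1 : 865 < cK ∧ fSrc (F 865) = 0 ∧ fDst (F 865) = 0 ∧ fSym (F 865) = 11 := by decide +kernel

/-- the letters of the targets lie in the subgroup -/
theorem cert_mem {G : Type*} [Group G] (v : ℕ → G) (hvinv : ∀ s < 12, v (invS cIV s) = (v s)⁻¹)
    (hvge : ∀ s, ¬ s < 12 → v s = 1) (hbase : ∀ b ∈ baseL, wprod v b = 1) (H : Subgroup G)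
    (hH : ∀ w ∈ sw, wprod v w ∈ H) : v 9 ∈ H ∧ v 11 ∈ H := by
  have hv := Cfsg.Agent.Lib.helper17.ONM.onm_valid_all v 12 cIV (by norm_num) hiv hvinv hvge baseL hbase hlet sw hletsw H hH
    F RW rotW chunks cD cK cR0 cR hdefs hchunks hcover hrelc
  exact ⟨Cfsg.Agent.Lib.helper17.ONM.onm_mem_of_valid v H F 1212 9 (hv 1212 htarget_0.1) htarget_0.2.1 htarget_0.2.2.1 htarget_0.2.2.2,
    Cfsg.Agent.Lib.helper17.ONM.onm_mem_of_valid v H F 865 11 (hv 865 htarget_1.1) htarget_1.2.1 htarget_1.2.2.1 htarget_1.2.2.2⟩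

end Cfsg.Agent.Lib.helper17.ONM.P3A
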